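import Mathlib.GroupTheory.Complement
import Mathlib.GroupTheory.SpecificGroups.Cyclic
import Mathlib.Data.ZMod.QuotientGroup
import Mathlib.LinearAlgebra.Dimension.Free
import Mathlib.LinearAlgebra.Dimension.Constructions
import Mathlib.LinearAlgebra.FreeModule.Finite.Basic
import Mathlib.Algebra.Module.Equiv.Basic
import Mathlib.Algebra.Group.Commute.Units
import Mathlib.LinearAlgebra.FreeModule.StrongRankCondition

/-!
# Eigen-submodule of a translation in the regular representation
-/

set_option autoImplicit false
universe u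

namespace Groth.Agent.Lib.Helper24.TranslateEigen

open Subgroup

variable (A : Type u) [CommRing A] (G : Type u) [Group G] [Finite G] (g : G) (l : A)

/-- The eigen-submodule. -/
abbrev K : Submodule A (G → A) :=
  LinearMap.ker (LinearMap.funLeft A A (fun h : G => g * h) - l • LinearMap.id)

variable {A G g l}

theorem mem_K {v : G → A} : v ∈ K A G g l ↔ ∀ x, v (g * x) = l * v x := by
  rw [LinearMap.mem_ker]
  constructor
  · intro h x
    have := congrFun h x
    simp only [LinearMap.sub_apply, LinearMap.funLeft_apply, LinearMap.smul_apply,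
      LinearMap.id_apply, Pi.sub_apply, Pi.smul_apply, smul_eq_mul, Pi.zero_apply] at this
    exact sub_eq_zero.mp this
  · intro h
    funext x
    simp only [LinearMap.sub_apply, LinearMap.funLeft_apply, LinearMap.smul_apply,
      LinearMap.id_apply, Pi.sub_apply, Pi.smul_apply, smul_eq_mul, Pi.zero_apply]
    exact sub_eq_zero.mpr (h x)

theorem main [Nontrivial A] (hl : l ^ orderOf g = 1) :
    Module.Free A (K A G g l) ∧
      Module.finrank A (K A G g l) * orderOf g = Nat.card G ∧
      ∃ E' : Submodule A (G → A), IsCompl (K A G g l) E' := by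
  classical
  have hν : 0 < orderOf g := orderOf_pos g
  let lu : Aˣ := Units.ofPowEqOne l _ hl hν.ne'
  have hlu : (lu : A) = l := Units.val_ofPowEqOne _ _ _ _
  have hlupow : lu ^ orderOf g = 1 := Units.pow_ofPowEqOne hl hν.ne'
  let H : Subgroup G := zpowers g
  let gH : H := ⟨g, mem_zpowers g⟩
  have hgen : ∀ x : H, x ∈ zpowers gH := by
    rintro ⟨x, hx⟩
    obtain ⟨k, rfl⟩ := mem_zpowers_iff.mp hx
    exact mem_zpowers_iff.mpr ⟨k, Subtype.ext (by simp [gH])⟩
  have hord : orderOf lu ∣ orderOf gH := by
    rw [Subgroup.orderOf_mk]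
    exact orderOf_dvd_of_pow_eq_one hlupow
  let χ : H →* Aˣ := monoidHomOfForallMemZpowers hgen hord
  have hχg : χ gH = lu := monoidHomOfForallMemZpowers_apply_gen hgen hord
  obtain ⟨T, hT, -⟩ := exists_isComplement_right H 1
  let φ : H × T ≃ G := Equiv.ofBijective _ hT
  have hφ : ∀ (h : H) (t : T), φ (h, t) = h.1 * t.1 := fun h t => rfl
  have hφx : ∀ x : G, ((φ.symm x).1 : G) * ((φ.symm x).2 : G) = x := by
    intro x
    have := φ.apply_symm_apply x
    rw [← this]
    simp only [Equiv.symm_apply_apply]
    exact (hφ _ _).symm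
  have hφg : ∀ x : G, φ.symm (g * x) = (gH * (φ.symm x).1, (φ.symm x).2) := by
    intro x
    rw [Equiv.symm_apply_eq, hφ]
    show g * x = g * ((φ.symm x).1 : G) * ((φ.symm x).2 : G)
    rw [mul_assoc, hφx]
  have hφT : ∀ t : T, φ.symm (t : G) = (1, t) := by
    intro t
    rw [Equiv.symm_apply_eq, hφ]
    simp
  -- elements of `K` transform by `χ`
  have htrans : ∀ v ∈ K A G g l, ∀ (h : H) (y : G), v ((h : G) * y) = (χ h : A) * v y := by
    intro v hv
    rw [mem_K] at hv
    have hinv : ∀ y, v (g⁻¹ * y) = ((lu⁻¹ : Aˣ) : A) * v y := by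
      intro y
      have h1 := hv (g⁻¹ * y)
      rw [mul_inv_cancel_left] at h1
      rw [h1, ← mul_assoc, ← hlu, Units.inv_mul, one_mul]
    have hk : ∀ k : ℤ, ∀ y, v (((gH ^ k : H) : G) * y) = (χ (gH ^ k) : A) * v y := by
      intro k
      induction k using Int.induction_on with
      | zero => intro y; simp
      | succ k ih =>
        intro y
        rw [zpow_add_one, Subgroup.coe_mul, mul_assoc, ih, map_mul, hχg, Units.val_mul, hlu,
          mul_assoc]
        congr 1
        exact hv y
      | pred k ih =>
        intro y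
        rw [zpow_sub_one, Subgroup.coe_mul, mul_assoc, ih, map_mul, map_inv, hχg, Units.val_mul,
          mul_assoc]
        congr 1
        exact hinv y
    intro h y
    obtain ⟨k, rfl⟩ := mem_zpowers_iff.mp (hgen h)
    exact hk k y
  -- the equivalence
  let inv : (T → A) → (G → A) := fun f x => (χ (φ.symm x).1 : A) * f (φ.symm x).2
  have hinvK : ∀ f, inv f ∈ K A G g l := by
    intro f
    rw [mem_K]
    intro x
    show (χ (φ.symm (g * x)).1 : A) * f (φ.symm (g * x)).2 = l * ((χ (φ.symm x).1 : A) * f (φ.symm x).2)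
    rw [hφg x]
    simp only [map_mul, hχg, Units.val_mul, hlu, mul_assoc]
  have hinvT : ∀ f (t : T), inv f t = f t := by
    intro f t
    show (χ (φ.symm (t : G)).1 : A) * f (φ.symm (t : G)).2 = f t
    rw [hφT t]
    simp
  have hinvres : ∀ v ∈ K A G g l, inv (fun t : T => v t) = v := by
    intro v hv
    funext x
    show (χ (φ.symm x).1 : A) * v ((φ.symm x).2 : G) = v x
    rw [← htrans v hv, hφx]
  let e : K A G g l ≃ₗ[A] (T → A) :=
    { toFun := fun v t => v.1 t
      map_add' := fun v w => rfl
      map_smul' := fun c v => rfl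
      invFun := fun f => ⟨inv f, hinvK f⟩
      left_inv := fun v => Subtype.ext (hinvres v.1 v.2)
      right_inv := fun f => funext (hinvT f) }
  haveI : Finite T := Subtype.finite
  haveI : Fintype T := Fintype.ofFinite T
  refine ⟨Module.Free.of_equiv e.symm, ?_, ?_⟩
  · rw [e.finrank_eq, Module.finrank_pi, ← Nat.card_eq_fintype_card, ← Nat.card_zpowers g, mul_comm]
    exact hT.card_mul_card
  · refine ⟨LinearMap.ker (LinearMap.funLeft A A (Subtype.val : T → G)), ?_, ?_⟩
    · rw [Submodule.disjoint_def]
      intro v hv hv'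
      rw [LinearMap.mem_ker] at hv'
      rw [← hinvres v hv]
      funext x
      show (χ (φ.symm x).1 : A) * v ((φ.symm x).2 : G) = 0
      have := congrFun hv' (φ.symm x).2
      rw [LinearMap.funLeft_apply] at this
      rw [this]
      simp
    · rw [codisjoint_iff, Submodule.eq_top_iff']
      intro v
      rw [Submodule.mem_sup]
      refine ⟨inv (fun t : T => v t), hinvK (fun t : T => v t), v - inv (fun t : T => v t), ?_, by abel⟩
      rw [LinearMap.mem_ker]
      funext t
      rw [LinearMap.funLeft_apply]
      show v t - inv (fun t : T => v t) t = 0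
      exact sub_eq_zero.mpr (hinvT (fun t : T => v t) t).symm

end Groth.Agent.Lib.Helper24.TranslateEigen
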